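import Groth.Prelude.Def_DescFam
import Groth.Agent.DescFamFF.Glue

/-!
# Pullback of descent data along a refinement of families
-/

set_option autoImplicit false
set_option backward.isDefEq.respectTransparency false
set_option backward.isDefEq.respectTransparency.types false
universe u
open CategoryTheory CategoryTheory.Limits AlgebraicGeometry

namespace Groth.Agent.DescFamFF

variable {ι κ : Type u} {S : Scheme.{u}} {U : ι → Scheme.{u}} {V : κ → Scheme.{u}}
    {u : ∀ i, U i ⟶ S} {v : ∀ j, V j ⟶ S} {α : ι → κ} {g : ∀ i, U i ⟶ V (α i)}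
    (w : ∀ i, g i ≫ v (α i) = u i ≫ 𝟙 S) {D D' : Desc.SchDDFam v}

/-- The effect on points of a morphism between pulled back descent data. -/
noncomputable def push (b : (Desc.pullDDFam w).obj D ⟶ (Desc.pullDDFam w).obj D') {T : Scheme.{u}} {i : ι}
    (x : T ⟶ U i) (z : Desc.Lifts (D.obj (α i)) (x ≫ g i)) : Desc.Lifts (D'.obj (α i)) (x ≫ g i) :=
  Desc.liftsPullbackEquiv (D'.obj (α i)) (g i) x
    (b.push ((Desc.liftsPullbackEquiv (D.obj (α i)) (g i) x).symm z))

theorem push_val (b : (Desc.pullDDFam w).obj D ⟶ (Desc.pullDDFam w).obj D') {T : Scheme.{u}} {i : ι}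
    (x : T ⟶ U i) (z : Desc.Lifts (D.obj (α i)) (x ≫ g i)) :
    (push w b x z).1 = pullback.lift z.1 x z.2 ≫ (b.hom i).left ≫ pullback.fst (D'.obj (α i)).hom (g i) :=
  Category.assoc _ _ _

theorem push_natural (b : (Desc.pullDDFam w).obj D ⟶ (Desc.pullDDFam w).obj D') {T T' : Scheme.{u}} {i : ι}
    (t : T' ⟶ T) (x : T ⟶ U i) (z : Desc.Lifts (D.obj (α i)) (x ≫ g i))
    (z' : Desc.Lifts (D.obj (α i)) ((t ≫ x) ≫ g i)) (hz : z'.1 = t ≫ z.1) :
    (push w b (t ≫ x) z').1 = t ≫ (push w b x z).1 := by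
  have e : pullback.lift z'.1 (t ≫ x) z'.2 = t ≫ pullback.lift z.1 x z.2 :=
    pullback.hom_ext (by simp [hz]) (by simp)
  rw [push_val, push_val, e, Category.assoc]

theorem push_comm (b : (Desc.pullDDFam w).obj D ⟶ (Desc.pullDDFam w).obj D') {T : Scheme.{u}} {i i' : ι}
    (x : T ⟶ U i) (x' : T ⟶ U i') (h : x ≫ u i = x' ≫ u i') (z : Desc.Lifts (D.obj (α i)) (x ≫ g i)) :
    D'.φ (x ≫ g i) (x' ≫ g i') (Desc.pull_compat w x x' h) (push w b x z) =
      push w b x' (D.φ (x ≫ g i) (x' ≫ g i') (Desc.pull_compat w x x' h) z) := by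
  let e := Desc.liftsPullbackEquiv (D.obj (α i)) (g i) x
  let e' := Desc.liftsPullbackEquiv (D'.obj (α i')) (g i') x'
  have hc := b.comm x x' h (e.symm z) (b.push (e.symm z)) rfl
  have hd : ((Desc.pullDDFam w).obj D').φ x x' h (b.push (e.symm z)) =
      b.push (((Desc.pullDDFam w).obj D).φ x x' h (e.symm z)) := Subtype.ext hc
  have he := congrArg e' hd
  simp only [Desc.pullDDFam, Desc.pullDDFamObj, Equiv.trans_apply, e, e', Equiv.apply_symm_apply] at he
  exact he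

/-- The candidate value at a point of a morphism of descent data. -/
noncomputable def val (b : (Desc.pullDDFam w).obj D ⟶ (Desc.pullDDFam w).obj D') {T : Scheme.{u}} {j : κ}
    (y : T ⟶ (D.obj j).left) {i : ι} (x : T ⟶ U i) (h : (y ≫ (D.obj j).hom) ≫ v j = (x ≫ g i) ≫ v (α i)) :
    Desc.Lifts (D'.obj j) (y ≫ (D.obj j).hom) :=
  D'.φ (x ≫ g i) (y ≫ (D.obj j).hom) h.symm (push w b x (D.φ (y ≫ (D.obj j).hom) (x ≫ g i) h ⟨y, rfl⟩))

theorem val_indep (b : (Desc.pullDDFam w).obj D ⟶ (Desc.pullDDFam w).obj D') {T : Scheme.{u}} {j : κ}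
    (y : T ⟶ (D.obj j).left) {i : ι} (x : T ⟶ U i) (h : (y ≫ (D.obj j).hom) ≫ v j = (x ≫ g i) ≫ v (α i))
    {i' : ι} (x' : T ⟶ U i') (h' : (y ≫ (D.obj j).hom) ≫ v j = (x' ≫ g i') ≫ v (α i')) :
    val w b y x h = val w b y x' h' := by
  have hxx : x ≫ u i = x' ≫ u i' := by
    have e := h.symm.trans h'
    simpa [Category.assoc, w] using e
  unfold val
  rw [← D.φ_comp (y ≫ (D.obj j).hom) (x ≫ g i) (x' ≫ g i') h (Desc.pull_compat w x x' hxx),
    ← push_comm w b x x' hxx, D'.φ_comp]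

theorem val_natural (b : (Desc.pullDDFam w).obj D ⟶ (Desc.pullDDFam w).obj D') {T T' : Scheme.{u}} {j : κ}
    (t : T' ⟶ T) (y : T ⟶ (D.obj j).left) {i : ι} (x : T ⟶ U i)
    (h : (y ≫ (D.obj j).hom) ≫ v j = (x ≫ g i) ≫ v (α i))
    (h' : ((t ≫ y) ≫ (D.obj j).hom) ≫ v j = ((t ≫ x) ≫ g i) ≫ v (α i)) :
    (val w b (t ≫ y) (t ≫ x) h').1 = t ≫ (val w b y x h).1 := by
  refine D'.φ_natural t _ _ h.symm _ _ (Category.assoc _ _ _).symm (Category.assoc _ _ _).symm h'.symm _ _ ?_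
  refine push_natural w b t x _ _ ?_
  exact D.φ_natural t _ _ h _ _ (Category.assoc _ _ _).symm (Category.assoc _ _ _).symm h' _ _ rfl

variable (hu : ∀ (j : κ) {T : Scheme.{u}} (t : T ⟶ V j),
    Sieve.ofArrows (fun i => pullback (t ≫ v j) (u i)) (fun i => pullback.fst (t ≫ v j) (u i)) ∈ Scheme.fpqcTopology T)

include hu in
theorem exists_desc (b : (Desc.pullDDFam w).obj D ⟶ (Desc.pullDDFam w).obj D') (j : κ) :
    ∃ m : (D.obj j).left ⟶ (D'.obj j).left, m ≫ (D'.obj j).hom = (D.obj j).hom ∧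
      ∀ {T : Scheme.{u}} (y : T ⟶ (D.obj j).left) {i : ι} (x : T ⟶ U i)
        (h : (y ≫ (D.obj j).hom) ≫ v j = (x ≫ g i) ≫ v (α i)), y ≫ m = (val w b y x h).1 := by
  let t := (D.obj j).hom ≫ v j
  have hc : ∀ i, ((pullback.fst t (u i)) ≫ (D.obj j).hom) ≫ v j = (pullback.snd t (u i) ≫ g i) ≫ v (α i) := by
    intro i
    rw [Category.assoc, Category.assoc, w, Category.comp_id]
    exact pullback.condition
  obtain ⟨m, hm, -⟩ := existsUnique_glue' (hu j (D.obj j).hom) (fun i => (val w b _ _ (hc i)).1)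
    (by
      intro T i i' a a' haa
      have h1 : ((a ≫ pullback.fst t (u i)) ≫ (D.obj j).hom) ≫ v j = ((a ≫ pullback.snd t (u i)) ≫ g i) ≫ v (α i) := by
        simp only [Category.assoc] at *; rw [hc i]
      have h2 : ((a' ≫ pullback.fst t (u i')) ≫ (D.obj j).hom) ≫ v j = ((a' ≫ pullback.snd t (u i')) ≫ g i') ≫ v (α i') := by
        simp only [Category.assoc] at *; rw [hc i']
      rw [← val_natural w b a _ _ (hc i) h1, ← val_natural w b a' _ _ (hc i') h2]
      have aux : ∀ (y y' : T ⟶ (D.obj j).left) (_ : y = y') (h h'), (val w b y (a ≫ pullback.snd t (u i)) h).1 =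
          (val w b y' (a' ≫ pullback.snd t (u i')) h').1 := by
        rintro y _ rfl h h'
        rw [val_indep w b y _ h _ h']
      exact aux _ _ haa _ _)
  have spec : ∀ {T : Scheme.{u}} (y : T ⟶ (D.obj j).left) {i : ι} (x : T ⟶ U i)
      (h : (y ≫ (D.obj j).hom) ≫ v j = (x ≫ g i) ≫ v (α i)), y ≫ m = (val w b y x h).1 := by
    intro T y i x h
    have hy : y ≫ t = x ≫ u i := by
      simpa [t, Category.assoc, w] using h
    obtain ⟨a, hy', hx'⟩ : ∃ a, a ≫ pullback.fst t (u i) = y ∧ a ≫ pullback.snd t (u i) = x :=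
      ⟨pullback.lift y x hy, pullback.lift_fst _ _ _, pullback.lift_snd _ _ _⟩
    subst hy' hx'
    rw [Category.assoc, hm]
    exact (val_natural w b a _ _ (hc i) h).symm
  refine ⟨m, ?_, spec⟩
  refine hom_ext' (hu j (D.obj j).hom) fun i => ?_
  rw [← Category.assoc, hm]
  exact (val w b _ _ (hc i)).2

include hu in
theorem full : (Desc.pullDDFam (f := v) (f' := u) w).Full := by
  refine ⟨fun {D D'} b => ?_⟩
  choose m hm spec using exists_desc w hu b
  refine ⟨⟨fun j => Over.homMk (m j) (hm j), fun T j k x₀ x₁ h z z' hz => ?_⟩, ?_⟩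
  · obtain ⟨y, hy⟩ := z
    subst hy
    refine hom_ext' (hu j (y ≫ (D.obj j).hom)) fun i => ?_
    let p := pullback.fst ((y ≫ (D.obj j).hom) ≫ v j) (u i)
    let q := pullback.snd ((y ≫ (D.obj j).hom) ≫ v j) (u i)
    show p ≫ _ = p ≫ (D.φ _ _ h ⟨y, rfl⟩).1 ≫ m k
    have hq : ((p ≫ y) ≫ (D.obj j).hom) ≫ v j = (q ≫ g i) ≫ v (α i) := by
      rw [Category.assoc q, w, Category.comp_id, ← pullback.condition]
      simp [p]
    let y₁ := p ≫ (D.φ _ _ h ⟨y, rfl⟩).1
    have e1 : y₁ ≫ (D.obj k).hom = p ≫ x₁ := by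
      exact (Category.assoc _ _ _).trans (congrArg (p ≫ ·) (D.φ _ _ h ⟨y, rfl⟩).2)
    have hq' : (y₁ ≫ (D.obj k).hom) ≫ v k = (q ≫ g i) ≫ v (α i) := by
      rw [← hq, e1, Category.assoc p, ← h]
      simp [Category.assoc]
    have hjk : ((p ≫ y) ≫ (D.obj j).hom) ≫ v j = (y₁ ≫ (D.obj k).hom) ≫ v k := hq.trans hq'.symm
    have e2 : (D.φ ((p ≫ y) ≫ (D.obj j).hom) (y₁ ≫ (D.obj k).hom) hjk ⟨p ≫ y, rfl⟩).1 = y₁ :=
      D.φ_natural p _ _ h _ _ (Category.assoc _ _ _).symm e1.symm hjk _ _ rfl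
    have e3 : p ≫ (D'.φ _ _ h z').1 = (D'.φ ((p ≫ y) ≫ (D.obj j).hom) (y₁ ≫ (D.obj k).hom) hjk
        (val w b (p ≫ y) q hq)).1 := by
      refine (D'.φ_natural p _ _ h _ _ (Category.assoc _ _ _).symm e1.symm hjk _ _ ?_).symm
      exact (spec j (p ≫ y) q hq).symm.trans ((Category.assoc _ _ _).trans (congrArg (p ≫ ·) hz.symm))
    rw [← Category.assoc p, spec k y₁ q hq', e3]
    refine congrArg Subtype.val ?_
    unfold val
    rw [D'.φ_comp]
    have e4 : (⟨y₁, rfl⟩ : Desc.Lifts (D.obj k) (y₁ ≫ (D.obj k).hom)) =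
        D.φ ((p ≫ y) ≫ (D.obj j).hom) (y₁ ≫ (D.obj k).hom) hjk ⟨p ≫ y, rfl⟩ := Subtype.ext e2.symm
    rw [e4, D.φ_comp]
  · apply Desc.SchDDFam.hom_ext
    funext i
    apply Over.OverMorphism.ext
    apply pullback.hom_ext
    · show pullback.map _ _ _ _ (m (α i)) (𝟙 _) (𝟙 _) (by simp [hm]) (by simp) ≫ pullback.fst _ _ = _
      rw [pullback.lift_fst]
      let p := pullback.fst (D.obj (α i)).hom (g i)
      let q := pullback.snd (D.obj (α i)).hom (g i)
      have hq : (p ≫ (D.obj (α i)).hom) ≫ v (α i) = (q ≫ g i) ≫ v (α i) := by rw [pullback.condition]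
      refine (spec (α i) p q hq).trans ?_
      have aux : ∀ {T : Scheme.{u}} (c d : T ⟶ V (α i)) (_ : c = d) (hcd : c ≫ v (α i) = d ≫ v (α i))
          (E : Desc.SchDDFam v) (z : Desc.Lifts (E.obj (α i)) c), (E.φ c d hcd z).1 = z.1 := by
        rintro T c _ rfl hcd E z
        exact congrArg Subtype.val (E.φ_self c z)
      unfold val
      rw [aux _ _ pullback.condition.symm, push_val]
      have e : pullback.lift (D.φ _ _ hq ⟨p, rfl⟩).1 q (D.φ _ _ hq ⟨p, rfl⟩).2 = 𝟙 _ :=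
        pullback.hom_ext (by rw [pullback.lift_fst, aux _ _ pullback.condition, Category.id_comp])
          (by rw [pullback.lift_snd, Category.id_comp])
      rw [e, Category.id_comp]
    · exact (pullback.lift_snd _ _ _).trans ((Category.comp_id _).trans (Over.w (b.hom i)).symm)

theorem faithful_of_ext (hext : ∀ (j : κ) {T : Scheme.{u}} (t : T ⟶ V j) {Y : Scheme.{u}} (a b : T ⟶ Y),
      (∀ i, pullback.fst (t ≫ v j) (u i) ≫ a = pullback.fst (t ≫ v j) (u i) ≫ b) → a = b) :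
    (Desc.pullDDFam (f := v) (f' := u) w).Faithful := by
  refine ⟨fun {D D'} a a' h => ?_⟩
  have hi : ∀ i, pullback.fst (D.obj (α i)).hom (g i) ≫ (a.hom (α i)).left =
      pullback.fst (D.obj (α i)).hom (g i) ≫ (a'.hom (α i)).left := by
    intro i
    have e := congrArg (fun c => (Desc.SchDDFam.Hom.hom c i).left ≫ pullback.fst (D'.obj (α i)).hom (g i)) h
    simpa [Desc.pullDDFam, Desc.pullDDFamObj] using e
  apply Desc.SchDDFam.hom_ext
  funext j
  apply Over.OverMorphism.ext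
  refine hext j (D.obj j).hom _ _ fun i => ?_
  let p := pullback.fst ((D.obj j).hom ≫ v j) (u i)
  let q := pullback.snd ((D.obj j).hom ≫ v j) (u i)
  have hq : (p ≫ (D.obj j).hom) ≫ v j = (q ≫ g i) ≫ v (α i) := by
    rw [Category.assoc, Category.assoc, w, Category.comp_id]
    exact pullback.condition
  let z : Desc.Lifts (D.obj (α i)) (q ≫ g i) := D.φ _ _ hq ⟨p, rfl⟩
  have hz : z.1 ≫ (a.hom (α i)).left = z.1 ≫ (a'.hom (α i)).left := by
    rw [show z.1 = pullback.lift z.1 q z.2 ≫ pullback.fst (D.obj (α i)).hom (g i) from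
      (pullback.lift_fst _ _ _).symm, Category.assoc, Category.assoc, hi]
  have key : ∀ c : D ⟶ D', p ≫ (c.hom j).left = (D'.φ _ _ hq.symm (c.push z)).1 := by
    intro c
    have e1 : D'.φ _ _ hq (c.push ⟨p, rfl⟩) = c.push z := Subtype.ext (c.comm _ _ hq ⟨p, rfl⟩ _ rfl)
    rw [← e1, D'.φ_comp, D'.φ_self]
    rfl
  show p ≫ _ = p ≫ _
  rw [key a, key a', show a.push z = a'.push z from Subtype.ext hz]

include hu in
theorem faithful : (Desc.pullDDFam (f := v) (f' := u) w).Faithful :=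
  faithful_of_ext w fun j _ t _ _ _ h => hom_ext' (hu j t) h

theorem cover_of_mem (hu : Presieve.ofArrows U u ∈ Scheme.fpqcPrecoverage S) (j : κ) {T : Scheme.{u}} (t : T ⟶ V j) :
    Sieve.ofArrows (fun i => pullback (t ≫ v j) (u i)) (fun i => pullback.fst (t ≫ v j) (u i)) ∈ Scheme.fpqcTopology T :=
  Precoverage.generate_mem_toGrothendieck (mem_pullback hu _)

theorem cover_of_fibres (hcov : ∀ j, Presieve.ofArrows (fun i : {i // α i = j} => U i.1)
      (fun i => g i.1 ≫ eqToHom (congrArg V i.2)) ∈ Scheme.fpqcPrecoverage (V j))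
    (w' : ∀ i, g i ≫ v (α i) = u i) (j : κ) {T : Scheme.{u}} (t : T ⟶ V j) :
    Sieve.ofArrows (fun i => pullback (t ≫ v j) (u i)) (fun i => pullback.fst (t ≫ v j) (u i)) ∈ Scheme.fpqcTopology T := by
  refine Scheme.fpqcTopology.superset_covering ?_ (Precoverage.generate_mem_toGrothendieck (mem_pullback (hcov j) t))
  rintro W f ⟨W', a, b, ⟨i⟩, rfl⟩
  obtain ⟨i, rfl⟩ := i
  refine ⟨_, a ≫ pullback.map t (g i ≫ eqToHom rfl) (t ≫ v (α i)) (u i) (𝟙 _) (𝟙 _) (v (α i)) (by simp)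
    (by simp [w']), _, ⟨i⟩, ?_⟩
  rw [Category.assoc, pullback.lift_fst, Category.comp_id]

end Groth.Agent.DescFamFF
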