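import Groth.Agent.DescFamFF.Glue2
import Groth.Agent.DescFamFF.Pull

/-!
# Descent data glue along fibrewise Zariski refinements
-/

set_option autoImplicit false
set_option backward.isDefEq.respectTransparency false
set_option backward.isDefEq.respectTransparency.types false
set_option linter.style.haveILetI false
universe u
open CategoryTheory CategoryTheory.Limits AlgebraicGeometry

namespace Groth.Agent.DescFamFF

theorem zariski_cover {T : Scheme.{u}} {κ : Type u} {Q : κ → Scheme.{u}} (q : ∀ k, Q k ⟶ T)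
    (h : ∀ k, IsOpenImmersion (q k)) (hs : ∀ z : T, ∃ k, z ∈ Set.range (q k)) :
    Presieve.ofArrows Q q ∈ Scheme.fpqcPrecoverage T :=
  Scheme.zariskiPrecoverage_le_fpqcPrecoverage _ ((Scheme.ofArrows_mem_precoverage_iff _).mpr ⟨hs, h⟩)

variable {ι κ : Type u} {S : Scheme.{u}} {U : ι → Scheme.{u}} {V : κ → Scheme.{u}} {u : ∀ i, U i ⟶ S}
  (v : ∀ j, V j ⟶ S) (α : ι → κ) (g : ∀ i, U i ⟶ V (α i)) (D : Desc.SchDDFam u)

/-- The members over one index. -/
abbrev gf (j : κ) (a : {i // α i = j}) : U a.1 ⟶ V j := g a.1 ≫ eqToHom (congrArg V a.2)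

/-- Glued data for all indices. -/
structure Glued where
  M : ∀ j, Over (V j)
  J : ∀ j (a : {i // α i = j}), (D.obj a.1).left ⟶ (M j).left
  sq : ∀ j a, IsPullback (J j a) (D.obj a.1).hom (M j).hom (gf α g j a)
  glue : ∀ {T : Scheme.{u}} {j : κ} {a b : {i // α i = j}} (p : T ⟶ (D.obj a.1).left) (x : T ⟶ U b.1)
    (h : (p ≫ (D.obj a.1).hom) ≫ u a.1 = x ≫ u b.1) (_ : (p ≫ (D.obj a.1).hom) ≫ gf α g j a = x ≫ gf α g j b),
    tr D p x h ≫ J j b = p ≫ J j a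
  isOpen : ∀ j a, IsOpenImmersion (gf α g j a)
  covers : ∀ j (z : V j), ∃ a, z ∈ Set.range (gf α g j a)

variable {v α g} (w : ∀ i, g i ≫ v (α i) = u i)

include w in
theorem gf_comp (j : κ) (a : {i // α i = j}) : gf α g j a ≫ v j = u a.1 := by
  obtain ⟨a, rfl⟩ := a
  simp [gf, w]

include w in
theorem nonempty_glued (hcov : ∀ j, Presieve.ofArrows (fun i : {i // α i = j} => U i.1)
      (fun i => g i.1 ≫ eqToHom (congrArg V i.2)) ∈ Scheme.zariskiPrecoverage (V j)) :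
    Nonempty (Glued α g D) := by
  have hP := fun j => (Scheme.ofArrows_mem_precoverage_iff _).mp (hcov j)
  have h : ∀ j, ∃ (M : Over (V j)) (J : ∀ a : {i // α i = j}, (D.obj a.1).left ⟶ M.left),
      (∀ a, IsPullback (J a) (D.obj a.1).hom M.hom (gf α g j a)) ∧
      (∀ {T : Scheme.{u}} {a b : {i // α i = j}} (p : T ⟶ (D.obj a.1).left) (x : T ⟶ U b.1)
        (h : (p ≫ (D.obj a.1).hom) ≫ u a.1 = x ≫ u b.1) (_ : (p ≫ (D.obj a.1).hom) ≫ gf α g j a = x ≫ gf α g j b),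
        tr D p x h ≫ J b = p ≫ J a) := fun j =>
    haveI : ∀ a, IsOpenImmersion (gf α g j a) := (hP j).2
    exists_glued D (v j) (fun a : {i // α i = j} => a.1) (gf α g j) (gf_comp w j) (hP j).1
  choose M J sq glue using h
  exact ⟨⟨M, J, sq, fun {T j a b} => glue j, fun j => (hP j).2, fun j => (hP j).1⟩⟩

variable (G : Glued α g D)

instance (j : κ) (a : {i // α i = j}) : IsOpenImmersion (G.J j a) :=
  MorphismProperty.of_isPullback (P := @IsOpenImmersion) (G.sq j a).flip (G.isOpen j a)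

/-- The relation describing the glued transition bijections. -/
def Spec' {T : Scheme.{u}} {j k : κ} (x₁ : T ⟶ V k) (z : T ⟶ (G.M j).left) (m : T ⟶ (G.M k).left) : Prop :=
  ∀ {T' : Scheme.{u}} (t : T' ⟶ T) (a : {i // α i = j}) (b : {i // α i = k}) (p : T' ⟶ (D.obj a.1).left)
    (x : T' ⟶ U b.1), p ≫ G.J j a = t ≫ z → x ≫ gf α g k b = t ≫ x₁ →
    ∀ (h : (p ≫ (D.obj a.1).hom) ≫ u a.1 = x ≫ u b.1), tr D p x h ≫ G.J k b = t ≫ m

include w in
theorem hom_u {T : Scheme.{u}} {j : κ} (a : {i // α i = j}) (p : T ⟶ (D.obj a.1).left) :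
    (p ≫ (D.obj a.1).hom) ≫ u a.1 = ((p ≫ G.J j a) ≫ (G.M j).hom) ≫ v j := by
  rw [show (p ≫ G.J j a) ≫ (G.M j).hom = (p ≫ (D.obj a.1).hom) ≫ gf α g j a by
    rw [Category.assoc, Category.assoc, (G.sq j a).w], Category.assoc _ (gf α g j a), gf_comp w j a]

include w in
theorem existsUnique_spec {T : Scheme.{u}} {j k : κ} (x₀ : T ⟶ V j) (x₁ : T ⟶ V k)
    (h : x₀ ≫ v j = x₁ ≫ v k) (z : T ⟶ (G.M j).left) (hz : z ≫ (G.M j).hom = x₀) :
    ∃! m : T ⟶ (G.M k).left, m ≫ (G.M k).hom = x₁ ∧ Spec' D G x₁ z m := by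
  let Q : {i // α i = j} × {i // α i = k} → Scheme.{u} := fun ab =>
    pullback (pullback.fst z (G.J j ab.1) ≫ x₁) (gf α g k ab.2)
  let q : ∀ ab, Q ab ⟶ T := fun ab => pullback.fst _ _ ≫ pullback.fst z (G.J j ab.1)
  haveI := G.isOpen
  have hQ : Presieve.ofArrows Q q ∈ Scheme.fpqcPrecoverage T := by
    refine zariski_cover q (fun ab => ?_) fun y => ?_
    · haveI : IsOpenImmersion (pullback.fst (pullback.fst z (G.J j ab.1) ≫ x₁) (gf α g k ab.2)) := inferInstance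
      infer_instance
    · obtain ⟨a, r, hr⟩ := G.covers j (x₀ y)
      obtain ⟨p, hp, -⟩ := Scheme.Pullback.exists_preimage_pullback (f := (G.M j).hom) (g := gf α g j a) (z y) r
        ((congr($hz y)).trans hr.symm)
      obtain ⟨y₁, hy₁, -⟩ := Scheme.Pullback.exists_preimage_pullback (f := z) (g := G.J j a) y
        ((G.sq j a).isoPullback.inv p) (by
          rw [← hp]
          exact (congr($((G.sq j a).isoPullback_inv_fst) p)).symm)
      obtain ⟨b, r', hr'⟩ := G.covers k (x₁ y)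
      obtain ⟨y₂, hy₂, -⟩ := Scheme.Pullback.exists_preimage_pullback (f := pullback.fst z (G.J j a) ≫ x₁)
        (g := gf α g k b) y₁ r' (by rw [Scheme.Hom.comp_apply, hy₁]; exact hr'.symm)
      exact ⟨⟨a, b⟩, y₂, by rw [Scheme.Hom.comp_apply, hy₂, hy₁]⟩
  let pp : ∀ ab, Q ab ⟶ (D.obj ab.1.1).left := fun ab => pullback.fst _ _ ≫ pullback.snd z (G.J j ab.1)
  let xx : ∀ ab, Q ab ⟶ U ab.2.1 := fun ab => pullback.snd _ _
  have hpp : ∀ ab, pp ab ≫ G.J j ab.1 = q ab ≫ z := fun ab => by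
    simp only [pp, q, Category.assoc, pullback.condition]
  have hxx : ∀ ab, xx ab ≫ gf α g k ab.2 = q ab ≫ x₁ := fun ab => by
    simp only [xx, q, Category.assoc]
    exact pullback.condition.symm
  have hh : ∀ {T' : Scheme.{u}} (t : T' ⟶ T) (a : {i // α i = j}) (b : {i // α i = k}) (p : T' ⟶ (D.obj a.1).left)
      (x : T' ⟶ U b.1), p ≫ G.J j a = t ≫ z → x ≫ gf α g k b = t ≫ x₁ →
      (p ≫ (D.obj a.1).hom) ≫ u a.1 = x ≫ u b.1 := by
    intro T' t a b p x h1 h2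
    rw [hom_u D w G a p, h1, ← gf_comp w k b, ← Category.assoc x, h2, Category.assoc t, hz, Category.assoc, Category.assoc, h]
  have indep : ∀ {T' : Scheme.{u}} (t : T' ⟶ T) (a a' : {i // α i = j}) (b b' : {i // α i = k})
      (p : T' ⟶ (D.obj a.1).left) (p' : T' ⟶ (D.obj a'.1).left) (x : T' ⟶ U b.1) (x' : T' ⟶ U b'.1)
      (h1 : p ≫ G.J j a = t ≫ z) (h2 : x ≫ gf α g k b = t ≫ x₁) (h1' : p' ≫ G.J j a' = t ≫ z)
      (h2' : x' ≫ gf α g k b' = t ≫ x₁) (hc : (p ≫ (D.obj a.1).hom) ≫ u a.1 = x ≫ u b.1)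
      (hc' : (p' ≫ (D.obj a'.1).hom) ≫ u a'.1 = x' ≫ u b'.1),
      tr D p x hc ≫ G.J k b = tr D p' x' hc' ≫ G.J k b' := by
    intro T' t a a' b b' p p' x x' h1 h2 h1' h2' hc hc'
    have hg : (p ≫ (D.obj a.1).hom) ≫ gf α g j a = (p' ≫ (D.obj a'.1).hom) ≫ gf α g j a' := by
      rw [Category.assoc, Category.assoc, ← (G.sq j a).w, ← (G.sq j a').w, reassoc_of% h1, reassoc_of% h1']
    have hu : (p ≫ (D.obj a.1).hom) ≫ u a.1 = (p' ≫ (D.obj a'.1).hom) ≫ u a'.1 := by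
      rw [hom_u D w G a p, hom_u D w G a' p', h1, h1']
    have ep : tr D p (p' ≫ (D.obj a'.1).hom) hu = p' :=
      (cancel_mono (G.J j a')).mp ((G.glue p _ hu hg).trans (h1.trans h1'.symm))
    have e1 : tr D p' x' hc' = tr D p x' (hu.trans hc') := by
      rw [tr_congr D ep.symm rfl hc' (by rw [ep]; exact hc'), tr_tr]
    have hx : (tr D p x hc ≫ (D.obj b.1).hom) ≫ u b.1 = x' ≫ u b'.1 := by
      rw [tr_over, ← hc, hu, hc']
    rw [e1, ← tr_tr D p x x' hc hx (hu.trans hc')]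
    exact (G.glue _ x' hx (by rw [tr_over, h2, h2'])).symm
  obtain ⟨m, hm, huniq⟩ := existsUnique_glue hQ
    (fun ab => tr D (pp ab) (xx ab) (hh (q ab) ab.1 ab.2 _ _ (hpp ab) (hxx ab)) ≫ G.J k ab.2) (by
      intro T' ab ab' s s' hs
      rw [← Category.assoc s, ← Category.assoc s', comp_tr D s _ _ _ (by
          simpa only [Category.assoc] using congrArg (s ≫ ·) (hh (q ab) ab.1 ab.2 _ _ (hpp ab) (hxx ab))),
        comp_tr D s' _ _ _ (by
          simpa only [Category.assoc] using congrArg (s' ≫ ·) (hh (q ab') ab'.1 ab'.2 _ _ (hpp ab') (hxx ab')))]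
      exact indep (s ≫ q ab) _ _ _ _ _ _ _ _
        (((Category.assoc _ _ _).trans (congrArg (s ≫ ·) (hpp ab))).trans (Category.assoc _ _ _).symm)
        (((Category.assoc _ _ _).trans (congrArg (s ≫ ·) (hxx ab))).trans (Category.assoc _ _ _).symm)
        (((Category.assoc _ _ _).trans (congrArg (s' ≫ ·) (hpp ab'))).trans
          ((Category.assoc _ _ _).symm.trans (congrArg (· ≫ z) hs.symm)))
        (((Category.assoc _ _ _).trans (congrArg (s' ≫ ·) (hxx ab'))).trans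
          ((Category.assoc _ _ _).symm.trans (congrArg (· ≫ x₁) hs.symm))) _ _)
  refine ⟨m, ⟨?_, fun {T'} t a b p x h1 h2 hc => ?_⟩, fun m' ⟨_, hm'⟩ => huniq m' fun ab => ?_⟩
  · refine hom_ext hQ fun ab => ?_
    rw [← Category.assoc, hm, Category.assoc, (G.sq k ab.2).w, ← Category.assoc, tr_over, hxx]
  · obtain ⟨s, hs1, hs2⟩ : ∃ s : T' ⟶ pullback z (G.J j a), s ≫ pullback.fst _ _ = t ∧ s ≫ pullback.snd _ _ = p :=
      ⟨pullback.lift t p h1.symm, pullback.lift_fst _ _ _, pullback.lift_snd _ _ _⟩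
    obtain ⟨l, hl1, hl2⟩ : ∃ l : T' ⟶ Q (a, b), l ≫ pullback.fst _ _ = s ∧ l ≫ pullback.snd _ _ = x :=
      ⟨pullback.lift s x (by rw [← Category.assoc, hs1, h2]), pullback.lift_fst _ _ _, pullback.lift_snd _ _ _⟩
    have hp : l ≫ pp (a, b) = p := by simp only [pp]; rw [← Category.assoc, hl1, hs2]
    have hx : l ≫ xx (a, b) = x := hl2
    have ht : l ≫ q (a, b) = t := by simp only [q]; rw [← Category.assoc, hl1, hs1]
    rw [← ht, Category.assoc, hm, ← Category.assoc, comp_tr D l _ _ _ (by rw [hp, hx]; exact hc),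
      tr_congr D hp hx _ hc]
  · exact (hm' (q ab) ab.1 ab.2 _ _ (hpp ab) (hxx ab) _).symm

include w in
/-- The glued transition map. -/
noncomputable def F {T : Scheme.{u}} {j k : κ} (x₀ : T ⟶ V j) (x₁ : T ⟶ V k) (h : x₀ ≫ v j = x₁ ≫ v k)
    (z : Desc.Lifts (G.M j) x₀) : Desc.Lifts (G.M k) x₁ :=
  ⟨(existsUnique_spec D w G x₀ x₁ h z.1 z.2).choose, (existsUnique_spec D w G x₀ x₁ h z.1 z.2).choose_spec.1.1⟩

include w in
theorem F_spec {T : Scheme.{u}} {j k : κ} (x₀ : T ⟶ V j) (x₁ : T ⟶ V k) (h : x₀ ≫ v j = x₁ ≫ v k)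
    (z : Desc.Lifts (G.M j) x₀) : Spec' D G x₁ z.1 (F D w G x₀ x₁ h z).1 :=
  (existsUnique_spec D w G x₀ x₁ h z.1 z.2).choose_spec.1.2

include w in
theorem F_eq {T : Scheme.{u}} {j k : κ} (x₀ : T ⟶ V j) (x₁ : T ⟶ V k) (h : x₀ ≫ v j = x₁ ≫ v k)
    (z : Desc.Lifts (G.M j) x₀) (m : Desc.Lifts (G.M k) x₁) (hm : Spec' D G x₁ z.1 m.1) :
    F D w G x₀ x₁ h z = m :=
  Subtype.ext ((existsUnique_spec D w G x₀ x₁ h z.1 z.2).unique ⟨(F D w G x₀ x₁ h z).2, F_spec D w G x₀ x₁ h z⟩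
    ⟨m.2, hm⟩)

include w in
theorem F_self {T : Scheme.{u}} {j : κ} (x : T ⟶ V j) (z : Desc.Lifts (G.M j) x) : F D w G x x rfl z = z :=
  F_eq D w G x x rfl z z fun t a b p y h1 h2 h => by
    refine (G.glue p y h ?_).trans h1
    rw [Category.assoc, ← (G.sq j a).w, reassoc_of% h1, h2, z.2]

include w in
theorem F_comp {T : Scheme.{u}} {j k l : κ} (x₀ : T ⟶ V j) (x₁ : T ⟶ V k) (x₂ : T ⟶ V l)
    (h₀₁ : x₀ ≫ v j = x₁ ≫ v k) (h₁₂ : x₁ ≫ v k = x₂ ≫ v l) (z : Desc.Lifts (G.M j) x₀) :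
    F D w G x₁ x₂ h₁₂ (F D w G x₀ x₁ h₀₁ z) = F D w G x₀ x₂ (h₀₁.trans h₁₂) z := by
  refine (F_eq D w G _ _ _ z _ fun {T'} t a c p y h1 h2 h => ?_).symm
  haveI := G.isOpen
  let Q : {i // α i = k} → Scheme.{u} := fun b => pullback (t ≫ x₁) (gf α g k b)
  have hQ : Presieve.ofArrows Q (fun b => pullback.fst _ _) ∈ Scheme.fpqcPrecoverage T' := by
    refine zariski_cover _ (fun b => inferInstance) fun s => ?_
    obtain ⟨b, r, hr⟩ := G.covers k ((t ≫ x₁) s)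
    obtain ⟨y₂, hy₂, -⟩ := Scheme.Pullback.exists_preimage_pullback (f := t ≫ x₁) (g := gf α g k b) s r hr.symm
    exact ⟨b, y₂, hy₂⟩
  refine hom_ext hQ fun b => ?_
  let s : Q b ⟶ T' := pullback.fst _ _
  let x : Q b ⟶ U b.1 := pullback.snd _ _
  have hx : x ≫ gf α g k b = (s ≫ t) ≫ x₁ := pullback.condition.symm.trans (Category.assoc _ _ _).symm
  have hsp : (s ≫ p) ≫ G.J j a = (s ≫ t) ≫ z.1 := by rw [Category.assoc, h1, Category.assoc]
  have hsy : (s ≫ y) ≫ gf α g l c = (s ≫ t) ≫ x₂ := by rw [Category.assoc, h2, Category.assoc]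
  have hc : ((s ≫ p) ≫ (D.obj a.1).hom) ≫ u a.1 = x ≫ u b.1 := by
    rw [hom_u D w G a, hsp, ← gf_comp w k b, ← Category.assoc x, hx]
    simp only [Category.assoc]
    rw [reassoc_of% z.2, h₀₁]
  have h' : ((s ≫ p) ≫ (D.obj a.1).hom) ≫ u a.1 = (s ≫ y) ≫ u c.1 := by
    simp only [Category.assoc] at h ⊢
    rw [h]
  have hc2 : (tr D (s ≫ p) x hc ≫ (D.obj b.1).hom) ≫ u b.1 = (s ≫ y) ≫ u c.1 := by
    rw [tr_over, ← hc, h']
  have e1 := F_spec D w G x₀ x₁ h₀₁ z (s ≫ t) a b (s ≫ p) x hsp hx hc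
  have e2 := F_spec D w G x₁ x₂ h₁₂ (F D w G x₀ x₁ h₀₁ z) (s ≫ t) b c _ (s ≫ y) e1 hsy hc2
  show s ≫ tr D p y h ≫ G.J l c = s ≫ t ≫ _
  rw [← Category.assoc, comp_tr D s p y h h', ← tr_tr D (s ≫ p) x (s ≫ y) hc hc2 h', e2, Category.assoc]

include w in
/-- The glued descent datum. -/
noncomputable def gluedDD : Desc.SchDDFam v where
  obj := G.M
  φ T j k x₀ x₁ h :=
    { toFun := F D w G x₀ x₁ h
      invFun := F D w G x₁ x₀ h.symm
      left_inv := fun z => (F_comp D w G _ _ _ _ _ z).trans (F_self D w G _ z)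
      right_inv := fun z => (F_comp D w G _ _ _ _ _ z).trans (F_self D w G _ z) }
  φ_natural T T' s j k x₀ x₁ h y₀ y₁ h0 h1 h' z z' hz' := by
    have e : F D w G y₀ y₁ h' z' = ⟨s ≫ (F D w G x₀ x₁ h z).1, by rw [Category.assoc, (F D w G x₀ x₁ h z).2, h1]⟩ :=
      F_eq D w G y₀ y₁ h' z' _ fun t a b p x e1 e2 hc => by
        rw [← Category.assoc]
        exact F_spec D w G x₀ x₁ h z (t ≫ s) a b p x (by rw [e1, hz', Category.assoc])
          (by rw [e2, ← h1, Category.assoc]) hc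
    exact congrArg Subtype.val e
  φ_self T j x z := F_self D w G x z
  φ_comp T j k l x₀ x₁ x₂ h₀₁ h₁₂ z := F_comp D w G x₀ x₁ x₂ h₀₁ h₁₂ z

include w in
theorem exists_pull_iso :
    Nonempty ((Desc.pullDDFam (f := v) (f' := u) (α := α) (p := 𝟙 S) (p' := g)
      (fun i => (w i).trans (Category.comp_id (u i)).symm)).obj (gluedDD D w G) ≅ D) := by
  let I : ∀ i, D.obj i ≅ Over.mk (pullback.snd (G.M (α i)).hom (g i)) := fun i =>
    Over.isoMk ((G.sq (α i) ⟨i, rfl⟩).isoPullback ≪≫ pullback.congrHom rfl (by simp [gf]))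
      (by simp [pullback.congrHom])
  have hI : ∀ i, (I i).hom.left ≫ pullback.fst _ _ = G.J (α i) ⟨i, rfl⟩ := fun i => by
    simp [I, pullback.congrHom]
  let P := (Desc.pullDDFam (f := v) (f' := u) (α := α) (p := 𝟙 S) (p' := g)
      (fun i => (w i).trans (Category.comp_id (u i)).symm)).obj (gluedDD D w G)
  have key : ∀ ⦃T : Scheme.{u}⦄ ⦃i i' : ι⦄ (x₀ : T ⟶ U i) (x₁ : T ⟶ U i') (h : x₀ ≫ u i = x₁ ≫ u i')
      (z : Desc.Lifts (D.obj i) x₀) (z' : Desc.Lifts (P.obj i) x₀), z'.1 = z.1 ≫ (I i).hom.left →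
      (P.φ x₀ x₁ h z').1 = (D.φ x₀ x₁ h z).1 ≫ (I i').hom.left := by
    intro T i i' x₀ x₁ h z z' hz
    apply pullback.hom_ext
    · refine (pullback.lift_fst _ _ _).trans ?_
      refine Eq.trans ?_ ((congrArg (_ ≫ ·) (hI i')).symm.trans (Category.assoc _ _ _).symm)
      have hc : (z.1 ≫ (D.obj i).hom) ≫ u i = x₁ ≫ u i' := by rw [z.2, h]
      have e1 : z.1 ≫ G.J (α i) ⟨i, rfl⟩ = 𝟙 T ≫ z'.1 ≫ pullback.fst _ _ := by
        rw [Category.id_comp, hz, Category.assoc]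
        exact congrArg (z.1 ≫ ·) (hI i).symm
      have := F_spec D w G (x₀ ≫ g i) (x₁ ≫ g i') (Desc.pull_compat
        (fun i => (w i).trans (Category.comp_id (u i)).symm) x₀ x₁ h)
        (Desc.liftsPullbackEquiv (G.M (α i)) (g i) x₀ z') (𝟙 T) ⟨i, rfl⟩ ⟨i', rfl⟩ z.1 x₁ e1
        (by simp [gf]) hc
      rw [tr_eq D x₀ x₁ h z hc, Category.id_comp] at this
      exact this.symm
    · refine (pullback.lift_snd _ _ _).trans ?_
      rw [Category.assoc]
      refine ((D.φ x₀ x₁ h z).2).symm.trans ?_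
      exact congrArg (_ ≫ ·) (Over.w (I i').hom).symm
  let a : D ⟶ P := ⟨fun i => (I i).hom, key⟩
  let b : P ⟶ D := ⟨fun i => (I i).inv, fun T i i' x₀ x₁ h z z' hz => by
    have := key x₀ x₁ h z' z (by
      rw [hz, Category.assoc]
      exact (Category.comp_id _).symm.trans (congrArg (z.1 ≫ ·) (congrArg CommaMorphism.left (I i).inv_hom_id).symm))
    rw [this, Category.assoc]
    exact (Category.comp_id _).symm.trans (congrArg (_ ≫ ·) (congrArg CommaMorphism.left (I i').hom_inv_id).symm)⟩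
  exact ⟨⟨b, a, Desc.SchDDFam.hom_ext (funext fun i => (I i).inv_hom_id),
    Desc.SchDDFam.hom_ext (funext fun i => (I i).hom_inv_id)⟩⟩

include w in
theorem isEquivalence_zariski (hcov : ∀ j, Presieve.ofArrows (fun i : {i // α i = j} => U i.1)
      (fun i => g i.1 ≫ eqToHom (congrArg V i.2)) ∈ Scheme.zariskiPrecoverage (V j)) :
    (Desc.pullDDFam (f := v) (f' := u) (α := α) (p := 𝟙 S) (p' := g)
      (fun i => (w i).trans (Category.comp_id (u i)).symm)).IsEquivalence := by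
  have hu := cover_of_fibres (fun j => Scheme.zariskiPrecoverage_le_fpqcPrecoverage _ (hcov j)) w
  haveI := full (fun i => (w i).trans (Category.comp_id (u i)).symm) hu
  haveI := faithful (fun i => (w i).trans (Category.comp_id (u i)).symm) hu
  haveI : (Desc.pullDDFam (f := v) (f' := u) (α := α) (p := 𝟙 S) (p' := g)
      (fun i => (w i).trans (Category.comp_id (u i)).symm)).EssSurj := ⟨fun D => by
    obtain ⟨G⟩ := nonempty_glued D w hcov
    obtain ⟨e⟩ := exists_pull_iso D w G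
    exact ⟨_, ⟨e⟩⟩⟩
  exact { }

end Groth.Agent.DescFamFF
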