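import Groth.Prelude.Def_DescFam
import Mathlib

/-!
# Gluing the members of a descent datum along a Zariski covering
-/

set_option autoImplicit false
set_option backward.isDefEq.respectTransparency false
set_option backward.isDefEq.respectTransparency.types false
set_option linter.style.haveILetI false
universe u
open CategoryTheory CategoryTheory.Limits AlgebraicGeometry

namespace Groth.Agent.DescFamFF

variable {ι : Type u} {S : Scheme.{u}} {U : ι → Scheme.{u}} {u : ∀ i, U i ⟶ S} (D : Desc.SchDDFam u)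

/-- Transport of a point. -/
noncomputable def tr {T : Scheme.{u}} {a b : ι} (p : T ⟶ (D.obj a).left) (x : T ⟶ U b)
    (h : (p ≫ (D.obj a).hom) ≫ u a = x ≫ u b) : T ⟶ (D.obj b).left :=
  (D.φ (p ≫ (D.obj a).hom) x h ⟨p, rfl⟩).1

theorem tr_over {T : Scheme.{u}} {a b : ι} (p : T ⟶ (D.obj a).left) (x : T ⟶ U b)
    (h : (p ≫ (D.obj a).hom) ≫ u a = x ≫ u b) : tr D p x h ≫ (D.obj b).hom = x :=
  (D.φ (p ≫ (D.obj a).hom) x h ⟨p, rfl⟩).2

theorem tr_eq {T : Scheme.{u}} {a b : ι} (x₀ : T ⟶ U a) (x : T ⟶ U b) (h : x₀ ≫ u a = x ≫ u b)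
    (v : Desc.Lifts (D.obj a) x₀) (h' : (v.1 ≫ (D.obj a).hom) ≫ u a = x ≫ u b) :
    tr D v.1 x h' = (D.φ x₀ x h v).1 := by
  obtain ⟨p, hp⟩ := v
  subst hp
  rfl

theorem tr_congr {T : Scheme.{u}} {a b : ι} {p p' : T ⟶ (D.obj a).left} {x x' : T ⟶ U b} (hp : p = p') (hx : x = x')
    (h : (p ≫ (D.obj a).hom) ≫ u a = x ≫ u b) (h' : (p' ≫ (D.obj a).hom) ≫ u a = x' ≫ u b) :
    tr D p x h = tr D p' x' h' := by
  subst hp hx
  rfl

theorem comp_tr {T T' : Scheme.{u}} (t : T' ⟶ T) {a b : ι} (p : T ⟶ (D.obj a).left) (x : T ⟶ U b)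
    (h : (p ≫ (D.obj a).hom) ≫ u a = x ≫ u b) (h' : ((t ≫ p) ≫ (D.obj a).hom) ≫ u a = (t ≫ x) ≫ u b) :
    t ≫ tr D p x h = tr D (t ≫ p) (t ≫ x) h' :=
  (D.φ_natural t _ x h _ _ (Category.assoc _ _ _).symm rfl h' ⟨p, rfl⟩ ⟨t ≫ p, rfl⟩ rfl).symm

theorem tr_self {T : Scheme.{u}} {a : ι} (p : T ⟶ (D.obj a).left) (x : T ⟶ U a) (hx : p ≫ (D.obj a).hom = x)
    (h : (p ≫ (D.obj a).hom) ≫ u a = x ≫ u a) : tr D p x h = p := by
  subst hx
  exact congrArg Subtype.val (D.φ_self _ _)

theorem tr_tr {T : Scheme.{u}} {a b c : ι} (p : T ⟶ (D.obj a).left) (x : T ⟶ U b) (y : T ⟶ U c)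
    (h : (p ≫ (D.obj a).hom) ≫ u a = x ≫ u b) (h' : (tr D p x h ≫ (D.obj b).hom) ≫ u b = y ≫ u c)
    (h'' : (p ≫ (D.obj a).hom) ≫ u a = y ≫ u c) :
    tr D (tr D p x h) y h' = tr D p y h'' := by
  have e : x ≫ u b = y ≫ u c := h.symm.trans h''
  rw [show tr D (tr D p x h) y h' = (D.φ x y e (D.φ (p ≫ (D.obj a).hom) x h ⟨p, rfl⟩)).1 from tr_eq D x y e _ h',
    D.φ_comp]
  rfl

variable {W : Scheme.{u}} (wS : W ⟶ S) {A : Type u} (e : A → ι) (g : ∀ a, U (e a) ⟶ W)
  (hw : ∀ a, g a ≫ wS = u (e a))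

include hw in
theorem base_eq {T : Scheme.{u}} {a b : A} (x : T ⟶ U (e a)) (y : T ⟶ U (e b)) (h : x ≫ g a = y ≫ g b) :
    x ≫ u (e a) = y ≫ u (e b) := by
  rw [← hw, ← hw, reassoc_of% h]

variable [∀ a, IsOpenImmersion (g a)]

/-- The overlap. -/
noncomputable abbrev ovl (a b : A) : Scheme.{u} := pullback ((D.obj (e a)).hom ≫ g a) (g b)

/-- The transition map. -/
noncomputable def trans (a b : A) : ovl D e g a b ⟶ ovl D e g b a :=
  pullback.lift (tr D (pullback.fst ((D.obj (e a)).hom ≫ g a) (g b)) (pullback.snd _ _)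
      (base_eq wS e g hw _ _ ((Category.assoc _ _ _).trans pullback.condition)))
    (pullback.fst _ _ ≫ (D.obj (e a)).hom)
    (by rw [← Category.assoc, tr_over, Category.assoc]; exact pullback.condition.symm)

theorem trans_fst (a b : A) : trans D wS e g hw a b ≫ pullback.fst _ _ =
    tr D (pullback.fst ((D.obj (e a)).hom ≫ g a) (g b)) (pullback.snd _ _)
      (base_eq wS e g hw _ _ ((Category.assoc _ _ _).trans pullback.condition)) :=
  pullback.lift_fst _ _ _

include hw in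
theorem comp_trans_fst {T : Scheme.{u}} (a b : A) (t : T ⟶ ovl D e g a b) (p : T ⟶ (D.obj (e a)).left)
    (x : T ⟶ U (e b)) (hp : t ≫ pullback.fst _ _ = p) (hx : t ≫ pullback.snd _ _ = x)
    (h : (p ≫ (D.obj (e a)).hom) ≫ u (e a) = x ≫ u (e b)) :
    (t ≫ trans D wS e g hw a b) ≫ pullback.fst _ _ = tr D p x h := by
  subst hp hx
  rw [Category.assoc, trans_fst]
  exact comp_tr D t _ _ _ _

theorem trans'_cond (a b c : A) :
    let P := pullback (pullback.fst ((D.obj (e a)).hom ≫ g a) (g b)) (pullback.fst ((D.obj (e a)).hom ≫ g a) (g c))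
    let q : P ⟶ ovl D e g a b := pullback.fst _ _
    ((q ≫ trans D wS e g hw a b) ≫ pullback.fst _ _) ≫ (D.obj (e b)).hom ≫ g b =
      (pullback.snd (pullback.fst ((D.obj (e a)).hom ≫ g a) (g b)) (pullback.fst ((D.obj (e a)).hom ≫ g a) (g c)) ≫
        pullback.snd _ _) ≫ g c := by
  intro P q
  simp only [Category.assoc]
  rw [pullback.condition (f := (D.obj (e b)).hom ≫ g b)]
  simp only [trans, pullback.lift_snd_assoc, Category.assoc]
  rw [pullback.condition_assoc]
  exact congrArg (pullback.snd _ _ ≫ ·) pullback.condition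

/-- The triple transition map. -/
noncomputable def trans' (a b c : A) :
    pullback (pullback.fst ((D.obj (e a)).hom ≫ g a) (g b)) (pullback.fst ((D.obj (e a)).hom ≫ g a) (g c)) ⟶
      pullback (pullback.fst ((D.obj (e b)).hom ≫ g b) (g c)) (pullback.fst ((D.obj (e b)).hom ≫ g b) (g a)) :=
  pullback.lift
    (pullback.lift ((pullback.fst _ _ ≫ trans D wS e g hw a b) ≫ pullback.fst _ _)
      (pullback.snd _ _ ≫ pullback.snd _ _) (trans'_cond D wS e g hw a b c))
    (pullback.fst _ _ ≫ trans D wS e g hw a b)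
    (pullback.lift_fst _ _ _)

theorem trans'_fst_fst (a b c : A) :
    trans' D wS e g hw a b c ≫ pullback.fst _ _ ≫ pullback.fst _ _ =
      (pullback.fst _ _ ≫ trans D wS e g hw a b) ≫ pullback.fst _ _ := by
  rw [trans', pullback.lift_fst_assoc, pullback.lift_fst]

theorem cocycle (a b c : A) :
    trans' D wS e g hw a b c ≫ trans' D wS e g hw b c a ≫ trans' D wS e g hw c a b = 𝟙 _ := by
  set P := pullback (pullback.fst ((D.obj (e a)).hom ≫ g a) (g b)) (pullback.fst ((D.obj (e a)).hom ≫ g a) (g c))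
  let q : P ⟶ ovl D e g a b := pullback.fst _ _
  let p := q ≫ pullback.fst _ _
  let xb := q ≫ pullback.snd _ _
  let xc : P ⟶ U (e c) := pullback.snd (pullback.fst ((D.obj (e a)).hom ≫ g a) (g b))
    (pullback.fst ((D.obj (e a)).hom ≫ g a) (g c)) ≫ pullback.snd _ _
  rw [← cancel_mono (pullback.fst (pullback.fst ((D.obj (e a)).hom ≫ g a) (g b))
    (pullback.fst ((D.obj (e a)).hom ≫ g a) (g c)) ≫ pullback.fst _ _), Category.id_comp]
  show _ = p
  have hb : (p ≫ (D.obj (e a)).hom) ≫ u (e a) = xb ≫ u (e b) :=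
    base_eq wS e g hw _ _ (by simp only [p, xb, Category.assoc, pullback.condition])
  have hc : (p ≫ (D.obj (e a)).hom) ≫ u (e a) = xc ≫ u (e c) :=
    base_eq wS e g hw _ _ (by
      simp only [p, q, xc, Category.assoc]
      rw [pullback.condition_assoc]
      exact congrArg (pullback.snd _ _ ≫ ·) pullback.condition)
  let r := trans' D wS e g hw a b c
  have r1 : r ≫ pullback.fst _ _ ≫ pullback.fst _ _ = tr D p xb hb := by
    rw [trans'_fst_fst]
    exact comp_trans_fst D wS e g hw a b q p xb rfl rfl hb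
  have r2 : (r ≫ pullback.fst _ _) ≫ pullback.snd _ _ = xc := by
    rw [show r ≫ pullback.fst _ _ = _ from pullback.lift_fst _ _ _, pullback.lift_snd]
  have hbc : (tr D p xb hb ≫ (D.obj (e b)).hom) ≫ u (e b) = xc ≫ u (e c) := by
    rw [tr_over, ← hb, hc]
  have r3 : ((r ≫ pullback.fst _ _) ≫ trans D wS e g hw b c) ≫ pullback.fst _ _ = tr D p xc hc := by
    rw [comp_trans_fst D wS e g hw b c (r ≫ pullback.fst _ _) _ _ ((Category.assoc _ _ _).trans r1) r2 hbc, tr_tr]
  let r' := trans' D wS e g hw b c a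
  have s1 : (r ≫ r' ≫ pullback.fst _ _) ≫ pullback.fst _ _ = tr D p xc hc := by
    simp only [Category.assoc]
    rw [trans'_fst_fst, ← r3]
    simp only [Category.assoc]
  have s2 : (r ≫ r' ≫ pullback.fst _ _) ≫ pullback.snd _ _ = p ≫ (D.obj (e a)).hom := by
    rw [show r' ≫ pullback.fst _ _ = _ from pullback.lift_fst _ _ _, Category.assoc, pullback.lift_snd, ← Category.assoc,
      show r ≫ pullback.snd _ _ = _ from pullback.lift_snd _ _ _, Category.assoc, trans, pullback.lift_snd]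
    simp [p, q]
  have hca : (tr D p xc hc ≫ (D.obj (e c)).hom) ≫ u (e c) = (p ≫ (D.obj (e a)).hom) ≫ u (e a) := by
    rw [tr_over, hc]
  simp only [Category.assoc]
  rw [trans'_fst_fst]
  show r ≫ r' ≫ _ = p
  rw [← Category.assoc r, ← Category.assoc, ← Category.assoc]
  rw [comp_trans_fst D wS e g hw c a ((r ≫ r') ≫ pullback.fst _ _) _ _
    (by simpa only [Category.assoc] using s1) (by simpa only [Category.assoc] using s2) hca,
    tr_tr D p xc _ hc hca rfl, tr_self D p _ rfl]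

/-- The gluing datum. -/
noncomputable def glueData : Scheme.GlueData.{u} where
  J := A
  U a := (D.obj (e a)).left
  V ab := ovl D e g ab.1 ab.2
  f a b := pullback.fst _ _
  f_mono a b := inferInstance
  f_id a := by
    haveI : IsIso (pullback.fst ((D.obj (e a)).hom ≫ g a) (g a)) :=
      ⟨⟨pullback.lift (𝟙 _) (D.obj (e a)).hom (by simp), (cancel_mono (pullback.fst ((D.obj (e a)).hom ≫ g a) (g a))).mp
        (by rw [Category.assoc, pullback.lift_fst, Category.comp_id, Category.id_comp]), pullback.lift_fst _ _ _⟩⟩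
    infer_instance
  t a b := trans D wS e g hw a b
  t_id a := by
    rw [← cancel_mono (pullback.fst ((D.obj (e a)).hom ≫ g a) (g a)), trans_fst, Category.id_comp]
    exact tr_self D _ _ ((cancel_mono (g a)).mp ((Category.assoc _ _ _).trans pullback.condition)) _
  t' a b c := trans' D wS e g hw a b c
  t_fac a b c := pullback.lift_snd _ _ _
  cocycle a b c := cocycle D wS e g hw a b c
  f_open a b := inferInstance

include hw in
theorem exists_glued (hcov : ∀ z : W, ∃ a, z ∈ Set.range (g a)) :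
    ∃ (M : Over W) (j : ∀ a, (D.obj (e a)).left ⟶ M.left),
      (∀ a, IsPullback (j a) (D.obj (e a)).hom M.hom (g a)) ∧
      (∀ {T : Scheme.{u}} {a b : A} (p : T ⟶ (D.obj (e a)).left) (x : T ⟶ U (e b))
        (h : (p ≫ (D.obj (e a)).hom) ≫ u (e a) = x ≫ u (e b)) (_ : (p ≫ (D.obj (e a)).hom) ≫ g a = x ≫ g b),
        tr D p x h ≫ j b = p ≫ j a) := by
  let G := glueData D wS e g hw
  have glue : ∀ {T : Scheme.{u}} {a b : A} (p : T ⟶ (D.obj (e a)).left) (x : T ⟶ U (e b))
      (h : (p ≫ (D.obj (e a)).hom) ≫ u (e a) = x ≫ u (e b)) (_ : (p ≫ (D.obj (e a)).hom) ≫ g a = x ≫ g b),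
      tr D p x h ≫ G.ι b = p ≫ G.ι a := by
    intro T a b p x h hg
    let t : T ⟶ ovl D e g a b := pullback.lift p x (by rw [← Category.assoc]; exact hg)
    rw [← comp_trans_fst D wS e g hw a b t p x (pullback.lift_fst _ _ _) (pullback.lift_snd _ _ _) h]
    refine ((Category.assoc _ _ _).trans (Category.assoc _ _ _)).trans ?_
    refine (congrArg (t ≫ ·) (G.glue_condition a b)).trans ?_
    exact (Category.assoc _ _ _).symm.trans (congrArg (· ≫ G.ι a) (pullback.lift_fst _ _ _))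
  have compat : ∀ a b : A, pullback.fst (G.ι a) (G.ι b) ≫ (D.obj (e a)).hom ≫ g a =
      pullback.snd (G.ι a) (G.ι b) ≫ (D.obj (e b)).hom ≫ g b := by
    intro a b
    obtain ⟨k, hk1, hk2⟩ : ∃ k : pullback (G.ι a) (G.ι b) ⟶ ovl D e g a b, k ≫ pullback.fst _ _ = pullback.fst _ _ ∧
        k ≫ trans D wS e g hw a b ≫ pullback.fst _ _ = pullback.snd _ _ :=
      ⟨(G.vPullbackConeIsLimit a b).lift (PullbackCone.mk _ _ pullback.condition),
        (G.vPullbackConeIsLimit a b).fac _ WalkingCospan.left, (G.vPullbackConeIsLimit a b).fac _ WalkingCospan.right⟩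
    have e1 : trans D wS e g hw a b ≫ pullback.fst _ _ ≫ (D.obj (e b)).hom ≫ g b =
        pullback.fst _ _ ≫ (D.obj (e a)).hom ≫ g a := by
      rw [← Category.assoc, trans_fst, ← Category.assoc, tr_over, pullback.condition]
    rw [← hk1, ← hk2]
    simp only [Category.assoc]
    rw [e1]
  let m : G.glued ⟶ W := G.openCover.glueMorphisms (fun a : A => (D.obj (e a)).hom ≫ g a) compat
  have hm : ∀ a, G.ι a ≫ m = (D.obj (e a)).hom ≫ g a := fun a => G.openCover.ι_glueMorphisms _ compat a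
  refine ⟨Over.mk m, G.ι, fun a => ?_, glue⟩
  have hr : Set.range (G.ι a) = Set.range (pullback.fst m (g a)) := by
    rw [Scheme.Pullback.range_fst]
    refine Set.Subset.antisymm ?_ fun z hz => ?_
    · rintro _ ⟨y, rfl⟩
      exact ⟨(D.obj (e a)).hom y, (congr($(hm a) y)).symm⟩
    · obtain ⟨b, y, rfl⟩ := G.ι_jointly_surjective z
      obtain ⟨x, hx⟩ := hz
      obtain ⟨s, hs1, hs2⟩ := Scheme.Pullback.exists_preimage_pullback (f := (D.obj (e b)).hom ≫ g b) (g := g a) y x
        ((congr($(hm b) y)).symm.trans hx.symm)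
      refine ⟨(pullback.fst ((D.obj (e a)).hom ≫ g a) (g b)) (trans D wS e g hw b a s), ?_⟩
      rw [← hs1]
      exact congr($(G.glue_condition b a) s)
  refine IsPullback.of_iso_pullback ⟨hm a⟩ (IsOpenImmersion.isoOfRangeEq (G.ι a) (pullback.fst m (g a)) hr)
    (IsOpenImmersion.isoOfRangeEq_hom_fac _ _ _) ?_
  rw [← cancel_mono (g a), Category.assoc, ← pullback.condition, ← Category.assoc]
  exact (congrArg (· ≫ m) (IsOpenImmersion.isoOfRangeEq_hom_fac _ _ _)).trans (hm a)

end Groth.Agent.DescFamFF
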